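import Groth.Agent.S7988
import Groth.Agent.ComodLib.Coalg
import Mathlib.LinearAlgebra.JordanChevalley
import Mathlib.RingTheory.TensorProduct.Maps

/-!
# Jordan decomposition of rational points of affine groups
-/

universe u v w

open TensorProduct WithConv

namespace Groth.Agent.JordanPts

variable {k : Type u} [Field k] [PerfectField k]

/-- A multiplicative Jordan decomposition. -/
structure IsJD {V : Type w} [AddCommGroup V] [Module k V] (α : Module.End k V) (p : Module.End k V × Module.End k V) :
    Prop where
  ss : p.1.IsSemisimple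
  nil : IsNilpotent (p.2 - 1)
  comm : Commute p.1 p.2
  eq : p.1 * p.2 = α

section Lin

variable {V : Type w} [AddCommGroup V] [Module k V] [FiniteDimensional k V]
variable {W : Type*} [AddCommGroup W] [Module k W] [FiniteDimensional k W]

theorem exists_isJD {α : Module.End k V} (hα : IsUnit α) : ∃ p, IsJD α p := by
  obtain ⟨n, hn, s, hs, hnn, hss, h⟩ := α.exists_isNilpotent_isSemisimple
  have hns : Commute n s := Algebra.commute_of_mem_adjoin_singleton_of_commute hs
    (Algebra.commute_of_mem_adjoin_self hn).symm
  have hu : IsUnit s := by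
    have h1 := hnn.neg.isUnit_add_left_of_commute hα
      ((Algebra.commute_of_mem_adjoin_self hn).neg_right.symm)
    rwa [h, add_comm n s, add_neg_cancel_right] at h1
  obtain ⟨s, rfl⟩ := hu
  have hc : Commute (↑s⁻¹ : Module.End k V) n := hns.symm.units_inv_left
  have he : (↑s⁻¹ : Module.End k V) * α - 1 = ↑s⁻¹ * n := by
    rw [h, mul_add, Units.inv_mul, add_sub_cancel_right]
  refine ⟨(↑s, ↑s⁻¹ * α), hss, ?_, ?_, ?_⟩
  · show IsNilpotent ((↑s⁻¹ : Module.End k V) * α - 1)
    rw [he]
    exact hc.isNilpotent_mul_left hnn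
  · show Commute (↑s : Module.End k V) (↑s⁻¹ * α)
    rw [h, mul_add, Units.inv_mul]
    exact ((Commute.refl (↑s : Module.End k V)).units_inv_right.mul_right hns.symm).add_right (Commute.one_right _)
  · exact Units.mul_inv_cancel_left s α

theorem IsJD.natural {α : Module.End k V} {β : Module.End k W} {p : Module.End k V × Module.End k V}
    {q : Module.End k W × Module.End k W} (hp : IsJD α p) (hq : IsJD β q) (hα : IsUnit α) (hβ : IsUnit β)
    (φ : V →ₗ[k] W) (h : φ ∘ₗ α = β ∘ₗ φ) : φ ∘ₗ p.1 = q.1 ∘ₗ φ ∧ φ ∘ₗ p.2 = q.2 ∘ₗ φ :=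
  Groth.Agent.S7988.result k V W α p.1 p.2 β q.1 q.2 hα hβ hp.ss hp.nil hp.comm hp.eq hq.ss hq.nil hq.comm hq.eq φ h

omit [FiniteDimensional k W] in
theorem isSemisimple_map [FiniteDimensional k W] (f : Module.End k V →ₐ[k] Module.End k W) (x : Module.End k V)
    (hx : x.IsSemisimple) : (f x).IsSemisimple :=
  Module.End.isSemisimple_of_squarefree_aeval_eq_zero hx.minpoly_squarefree
    (by rw [Polynomial.aeval_algHom_apply, minpoly.aeval, map_zero])

theorem IsJD.tensor {α : Module.End k V} {β : Module.End k W} {p : Module.End k V × Module.End k V}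
    {q : Module.End k W × Module.End k W} (hp : IsJD α p) (hq : IsJD β q) :
    IsJD (TensorProduct.map α β) (TensorProduct.map p.1 q.1, TensorProduct.map p.2 q.2) := by
  let L := Module.End.rTensorAlgHom k V W
  let R := Module.End.lTensorAlgHom k W V
  have hmap : ∀ (a : Module.End k V) (b : Module.End k W), TensorProduct.map a b = L a * R b := fun a b =>
    TensorProduct.ext' fun x y => rfl
  have hcomm : ∀ (a : Module.End k V) (b : Module.End k W), Commute (L a) (R b) := fun a b =>
    TensorProduct.ext' fun x y => rfl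
  refine ⟨?_, ?_, ?_, ?_⟩
  · show Module.End.IsSemisimple (TensorProduct.map p.1 q.1)
    rw [hmap]
    exact (isSemisimple_map L _ hp.ss).mul_of_commute (hcomm _ _) (isSemisimple_map R _ hq.ss)
  · show IsNilpotent (TensorProduct.map p.2 q.2 - 1)
    rw [hmap, show L p.2 * R q.2 - 1 = L (p.2 - 1) * R q.2 + R (q.2 - 1) by
      rw [map_sub, map_sub, map_one, map_one, sub_mul, one_mul]; abel]
    refine Commute.isNilpotent_add ?_ ((hcomm _ _).isNilpotent_mul_right (hp.nil.map L)) (hq.nil.map R)
    exact (hcomm _ _).mul_left (((Commute.refl q.2).sub_right (Commute.one_right _)).map R)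
  · show Commute (TensorProduct.map p.1 q.1) (TensorProduct.map p.2 q.2)
    show _ = _
    rw [← TensorProduct.map_mul, ← TensorProduct.map_mul, hp.comm.eq, hq.comm.eq]
  · show TensorProduct.map p.1 q.1 * TensorProduct.map p.2 q.2 = _
    rw [← TensorProduct.map_mul, hp.eq, hq.eq]

/-- A chosen component of the Jordan decomposition: `true` semisimple, `false` unipotent. -/
noncomputable def pick (b : Bool) (α : Module.End k V) : Module.End k V :=
  haveI := Classical.propDecidable
  if hα : IsUnit α then (if b then (exists_isJD hα).choose.1 else (exists_isJD hα).choose.2) else 1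

theorem isJD_pick {α : Module.End k V} (hα : IsUnit α) : IsJD α (pick true α, pick false α) := by
  simpa [pick, hα] using (exists_isJD hα).choose_spec

theorem pick_natural (b : Bool) {α : Module.End k V} {β : Module.End k W} (hα : IsUnit α) (hβ : IsUnit β)
    (φ : V →ₗ[k] W) (h : φ ∘ₗ α = β ∘ₗ φ) (x : V) : φ (pick b α x) = pick b β (φ x) := by
  have h' := (isJD_pick hα).natural (isJD_pick hβ) hα hβ φ h
  cases b
  · exact LinearMap.congr_fun h'.2 x
  · exact LinearMap.congr_fun h'.1 x

theorem pick_eq (b : Bool) {α : Module.End k V} {p : Module.End k V × Module.End k V} (hα : IsUnit α) (hp : IsJD α p) :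
    pick b α = if b then p.1 else p.2 := by
  have h' := (isJD_pick hα).natural hp hα hα LinearMap.id rfl
  cases b
  · exact h'.2
  · exact h'.1

theorem pick_tensor (b : Bool) {α : Module.End k V} {β : Module.End k W} (hα : IsUnit α) (hβ : IsUnit β) :
    pick b (TensorProduct.map α β) = TensorProduct.map (pick b α) (pick b β) := by
  have hu : IsUnit (TensorProduct.map α β) := by
    obtain ⟨a, rfl⟩ := hα
    obtain ⟨c, rfl⟩ := hβ
    exact ⟨⟨TensorProduct.map a c, TensorProduct.map (↑a⁻¹ : Module.End k V) (↑c⁻¹ : Module.End k W),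
      by rw [← TensorProduct.map_mul]; simp, by rw [← TensorProduct.map_mul]; simp⟩, rfl⟩
  rw [pick_eq b hu ((isJD_pick hα).tensor (isJD_pick hβ))]
  cases b <;> rfl

end Lin

section Pts

open HopfRep (Comod)
open Groth.Agent.ComodLib

variable {A : Type v} [CommRing A] [HopfAlgebra k A] (g : A →ₐ[k] k)

theorem act_mul {V : Type w} [AddCommGroup V] [Module k V] [Comod k A V] (x y : WithConv (A →ₐ[k] k)) :
    Comod.act k A V (x * y).ofConv = Comod.act k A V x.ofConv * Comod.act k A V y.ofConv :=
  LinearMap.ext fun v => actF_convMul (toConv x.ofConv.toLinearMap) (toConv y.ofConv.toLinearMap) v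

theorem act_one {V : Type w} [AddCommGroup V] [Module k V] [Comod k A V] :
    Comod.act k A V (1 : WithConv (A →ₐ[k] k)).ofConv = 1 :=
  LinearMap.ext fun v => actF_counit v

theorem isUnit_act (V : Type w) [AddCommGroup V] [Module k V] [Comod k A V] : IsUnit (Comod.act k A V g) :=
  ⟨⟨Comod.act k A V g, Comod.act k A V (toConv g)⁻¹.ofConv,
    by rw [show g = (toConv g).ofConv from rfl, ← act_mul, mul_inv_cancel, act_one],
    by rw [show g = (toConv g).ofConv from rfl, ← act_mul, inv_mul_cancel, act_one]⟩, rfl⟩

/-- Right translation by a point. -/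
noncomputable def R : A →ₐ[k] A :=
  ((Algebra.TensorProduct.rid k k A).toAlgHom.comp (Algebra.TensorProduct.map (AlgHom.id k A) g)).comp
    (Bialgebra.comulAlgHom k A)

omit [PerfectField k] in
theorem R_eq_act (a : A) : R g a = Comod.act k A A g a := by
  show Algebra.TensorProduct.rid k k A (Algebra.TensorProduct.map (AlgHom.id k A) g (Coalgebra.comul (R := k) a)) =
    TensorProduct.rid k A (g.toLinearMap.lTensor A (Coalgebra.comul (R := k) a))
  induction Coalgebra.comul (R := k) a using TensorProduct.induction_on with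
  | zero => simp
  | add p q hp hq => simp only [map_add, hp, hq]
  | tmul p q => simp

theorem mem_R {U : Submodule k A} (hU : HopfRep.IsSubcomod (k := k) (A := A) U) (a : A) (ha : a ∈ U) : R g a ∈ U := by
  rw [R_eq_act]
  exact subcomod_actF_mem hU g.toLinearMap ha

/-- Right translation on a subcomodule. -/
noncomputable def RU (U : Submodule k A) (hU : HopfRep.IsSubcomod (k := k) (A := A) U) : Module.End k U :=
  (R g).toLinearMap.restrict (mem_R g hU)

theorem isUnit_RU (U : Submodule k A) (hU : HopfRep.IsSubcomod (k := k) (A := A) U) [FiniteDimensional k U] :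
    IsUnit (RU g U hU) := by
  have hinj : Function.Injective (RU g U hU) := fun x y h => Subtype.ext <|
    ((Module.End.isUnit_iff _).mp (isUnit_act g A)).injective <| by
      rw [← R_eq_act, ← R_eq_act]
      exact congrArg Subtype.val h
  exact (Module.End.isUnit_iff _).mpr ⟨hinj, LinearMap.injective_iff_surjective.mp hinj⟩

omit [PerfectField k] in
theorem exists_U (a : A) : ∃ U : Submodule k A, FiniteDimensional k U ∧ a ∈ U ∧ HopfRep.IsSubcomod (k := k) (A := A) U :=
  exists_finite_subcomod_mem a

/-- The Jordan components of right translation. -/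
noncomputable def part (b : Bool) (a : A) : A :=
  haveI := (exists_U (k := k) a).choose_spec.1
  (pick b (RU g _ (exists_U (k := k) a).choose_spec.2.2) ⟨a, (exists_U (k := k) a).choose_spec.2.1⟩ :
    (exists_U (k := k) a).choose)

theorem part_eq (b : Bool) (U : Submodule k A) (hU : HopfRep.IsSubcomod (k := k) (A := A) U) [FiniteDimensional k U]
    (x : U) : part g b x = (pick b (RU g U hU) x : A) := by
  obtain ⟨a, ha⟩ := x
  let U₀ := (exists_U (k := k) a).choose
  haveI : FiniteDimensional k U₀ := (exists_U (k := k) a).choose_spec.1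
  have hU₀ : HopfRep.IsSubcomod (k := k) (A := A) U₀ := (exists_U (k := k) a).choose_spec.2.2
  have key : ∀ (U' : Submodule k A) (hU' : HopfRep.IsSubcomod (k := k) (A := A) U') [FiniteDimensional k U']
      (hle : U' ≤ U₀ ⊔ U) (y : U'), ((pick b (RU g U' hU') y : U') : A) =
        (pick b (RU g _ (isSubcomod_sup hU₀ hU)) (Submodule.inclusion hle y) : (U₀ ⊔ U : Submodule k A)) := by
    intro U' hU' _ hle y
    exact congrArg Subtype.val (pick_natural b (isUnit_RU g U' hU') (isUnit_RU g _ _) (Submodule.inclusion hle) rfl y)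
  exact (key U₀ hU₀ le_sup_left ⟨a, (exists_U (k := k) a).choose_spec.2.1⟩).trans (key U hU le_sup_right ⟨a, ha⟩).symm

theorem part_add (b : Bool) (a c : A) : part g b (a + c) = part g b a + part g b c := by
  obtain ⟨U, hUf, hs, hU⟩ := exists_finite_subcomod_le (k := k) (C := A) (V := A) (Set.toFinite {a, c})
  haveI := hUf
  let x : U := ⟨a, hs (by simp)⟩
  let y : U := ⟨c, hs (by simp)⟩
  rw [show a + c = ((x + y : U) : A) from rfl, part_eq g b U hU, map_add, Submodule.coe_add,
    ← part_eq g b U hU, ← part_eq g b U hU]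

theorem part_smul (b : Bool) (r : k) (a : A) : part g b (r • a) = r • part g b a := by
  obtain ⟨U, hUf, ha, hU⟩ := exists_finite_subcomod_mem (k := k) (C := A) a
  haveI := hUf
  let x : U := ⟨a, ha⟩
  rw [show r • a = ((r • x : U) : A) from rfl, part_eq g b U hU, map_smul, Submodule.coe_smul, ← part_eq g b U hU]

theorem part_mul (b : Bool) (a c : A) : part g b (a * c) = part g b a * part g b c := by
  obtain ⟨U, hUf, hs, hU⟩ := exists_finite_subcomod_le (k := k) (C := A) (V := A) (Set.toFinite {a, c})
  haveI := hUf
  let φ₀ : U ⊗[k] U →ₗ[k] A := LinearMap.mul' k A ∘ₗ TensorProduct.map U.subtype U.subtype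
  obtain ⟨s, hs'⟩ : (LinearMap.range φ₀).FG := Module.Finite.iff_fg.mp inferInstance
  obtain ⟨W, hWf, hsW, hW⟩ := exists_finite_subcomod_le (k := k) (C := A) (V := A) s.finite_toSet
  haveI := hWf
  let φ : U ⊗[k] U →ₗ[k] W := φ₀.codRestrict W fun z =>
    (Submodule.span_le.mpr hsW) (hs'.ge (LinearMap.mem_range_self φ₀ z))
  have hφ : φ ∘ₗ TensorProduct.map (RU g U hU) (RU g U hU) = RU g W hW ∘ₗ φ :=
    TensorProduct.ext' fun x y => Subtype.ext (show R g x * R g y = R g (x * y) from (map_mul _ _ _).symm)
  have hut : IsUnit (TensorProduct.map (RU g U hU) (RU g U hU)) := by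
    obtain ⟨e, he⟩ := isUnit_RU g U hU
    rw [← he]
    exact ⟨⟨TensorProduct.map e e, TensorProduct.map (↑e⁻¹ : Module.End k U) (↑e⁻¹ : Module.End k U),
      by rw [← TensorProduct.map_mul]; simp, by rw [← TensorProduct.map_mul]; simp⟩, rfl⟩
  let x : U := ⟨a, hs (by simp)⟩
  let y : U := ⟨c, hs (by simp)⟩
  have h := pick_natural b hut (isUnit_RU g W hW) φ hφ (x ⊗ₜ y)
  rw [pick_tensor b (isUnit_RU g U hU) (isUnit_RU g U hU), TensorProduct.map_tmul] at h
  rw [show part g b a = (pick b (RU g U hU) x : A) from part_eq g b U hU x,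
    show part g b c = (pick b (RU g U hU) y : A) from part_eq g b U hU y,
    show part g b (a * c) = (pick b (RU g W hW) (φ (x ⊗ₜ y)) : A) from part_eq g b W hW (φ (x ⊗ₜ y)), ← h]
  rfl

theorem part_one (b : Bool) : part g b (1 : A) = 1 := by
  obtain ⟨U, hUf, h1, hU⟩ := exists_finite_subcomod_mem (k := k) (C := A) (1 : A)
  haveI := hUf
  let φ : k →ₗ[k] U := LinearMap.toSpanSingleton k U ⟨1, h1⟩
  have hφ : φ ∘ₗ (1 : Module.End k k) = RU g U hU ∘ₗ φ :=
    LinearMap.ext_ring (Subtype.ext (show (1 : k) • (1 : A) = R g ((1 : k) • (1 : A)) by simp))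
  have hjd : IsJD (1 : Module.End k k) (1, 1) :=
    ⟨Module.End.isSemisimple_id, by simp, Commute.refl _, mul_one _⟩
  have h := pick_natural b isUnit_one (isUnit_RU g U hU) φ hφ 1
  rw [pick_eq b isUnit_one hjd] at h
  have h1' : φ 1 = ⟨1, h1⟩ := LinearMap.toSpanSingleton_apply_one ..
  have h2 := congrArg Subtype.val h
  cases b <;> simp only [Module.End.one_apply, if_true, Bool.false_eq_true, if_false, h1'] at h2 <;>
    exact (part_eq g _ U hU ⟨1, h1⟩).trans h2.symm

/-- The Jordan components of a point. -/
noncomputable def pt (b : Bool) : A →ₐ[k] k :=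
  (Bialgebra.counitAlgHom k A).comp
    { toFun := part g b
      map_one' := part_one g b
      map_mul' := part_mul g b
      map_zero' := by simpa using part_smul g b 0 0
      map_add' := part_add g b
      commutes' := fun r => by
        rw [Algebra.algebraMap_eq_smul_one, part_smul, part_one] }

/-- The components act on every representation by the Jordan components. -/
theorem act_pt (b : Bool) (V : Type w) [AddCommGroup V] [Module k V] [Comod k A V] [FiniteDimensional k V] :
    Comod.act k A V (pt g b) = pick b (Comod.act k A V g) := by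
  refine LinearMap.ext fun v => eq_of_forall_dual fun f => ?_
  have hc := isComodHom_coefFun (C := A) f
  let U := LinearMap.range (coefFun (C := A) f)
  have hU : HopfRep.IsSubcomod (k := k) (A := A) U := isSubcomod_range hc
  let φ : V →ₗ[k] U := (coefFun (C := A) f).rangeRestrict
  have hφ : φ ∘ₗ Comod.act k A V g = RU g U hU ∘ₗ φ := LinearMap.ext fun x => Subtype.ext <| by
    show coefFun (C := A) f (actF g.toLinearMap x) = R g (coefFun (C := A) f x)
    rw [comodHom_actF hc, R_eq_act]
    rfl
  have h := congrArg Subtype.val (pick_natural b (isUnit_act g V) (isUnit_RU g U hU) φ hφ v)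
  have hp : pt g b (coefFun (C := A) f v) = f (pick b (Comod.act k A V g) v) := by
    show Bialgebra.counitAlgHom k A (part g b (φ v : A)) = _
    rw [part_eq g b U hU, ← h]
    exact counit_coefFun f _
  rw [← hp, coefFun_apply]
  show f (slice (pt g b).toLinearMap (Comod.coact (k := k) (A := A) v)) = _
  induction Comod.coact (k := k) (A := A) v using TensorProduct.induction_on with
  | zero => simp
  | add p q hp hq => simp only [map_add, hp, hq]
  | tmul p q => simp [mul_comm]
where
  eq_of_forall_dual {x y : V} (h : ∀ f : V →ₗ[k] k, f x = f y) : x = y :=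
    sub_eq_zero.mp ((Module.forall_dual_apply_eq_zero_iff k _).mp fun f => by rw [map_sub, h, sub_self])

omit [PerfectField k] in
/-- A point is determined by its action on finite subcomodules of the functions. -/
theorem pt_ext {x y : A →ₐ[k] k}
    (h : ∀ (V : Submodule k A) (c : Comod k A V), FiniteDimensional k V → letI := c
      Comod.act k A V x = Comod.act k A V y) : x = y := by
  refine AlgHom.ext fun a => ?_
  obtain ⟨U, hUf, ha, hU⟩ := exists_finite_subcomod_mem (k := k) (C := A) a
  letI c := ComodSub.Comod.restr (inferInstance : Comod k A A) U hU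
  have hsub : Hoch.IsComodHom A U.subtype := ComodSub.isComodHom_subtype _ U hU
  have hev : ∀ z : A →ₐ[k] k, Coalgebra.counit (R := k) (U.subtype (Comod.act k A U z ⟨a, ha⟩)) = z a := fun z => by
    show Coalgebra.counit (R := k) (U.subtype (actF z.toLinearMap (⟨a, ha⟩ : U))) = _
    rw [comodHom_actF hsub, actF_apply]
    show Coalgebra.counit (R := k) (slice z.toLinearMap (Coalgebra.comul (R := k) a)) = _
    conv_rhs => rw [← lid_counit_comul a]
    induction Coalgebra.comul (R := k) a using TensorProduct.induction_on with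
    | zero => simp
    | add p q hp hq => simp only [map_add, hp, hq]
    | tmul p q => simp [mul_comm]
  rw [← hev x, ← hev y, h U c hUf]
where
  lid_counit_comul (a : A) : TensorProduct.lid k A (Coalgebra.counit.rTensor A (Coalgebra.comul (R := k) a)) = a := by
    simp

end Pts

end Groth.Agent.JordanPts
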